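import Mathlib
import Cfsg.Prelude.Def_Spor_B
import Cfsg.Agent.ChevalleyStructure.CoxeterWordCheck

/-!
# S5591: the spider relator is a conjugate of the hexagon relator

In the Coxeter group of `Y₂₂₂ = {t3, t4, t5, t6, t7, t9, t10}` put `r = g t10 g`, `g = t9 t5 t4 t6 t5 t9`.  Then
`t3, t4, t5, t6, t7, r` is a hexagon and the tenth power of the spider is a conjugate of `(t6 t7 r t3 t4 t5) ^ 5`.
-/

set_option autoImplicit false

namespace Cfsg.Agent.B5591.Cover3

open Cfsg.Agent.ChevalleyStructure.CoxeterGeom Cfsg.Agent.ChevalleyStructure.CoxeterWordCheck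
open Cfsg.Spor Cfsg.Spor.BabyMonster

/-- The nodes of `Y₂₂₂`. -/
def nd7 : Fin 7 → Gen := ![.t3, .t4, .t5, .t6, .t7, .t9, .t10]

/-- The labels. -/
def lab7 (i j : Fin 7) : ℕ := coxLabel edges (nd7 i) (nd7 j)

theorem lab7_symm : ∀ i j : Fin 7, lab7 j i = lab7 i j := by decide +kernel
theorem lab7_diag : ∀ i : Fin 7, lab7 i i = 1 := by decide +kernel
theorem lab7_off : ∀ i j : Fin 7, i ≠ j → lab7 i j ≠ 1 := by decide +kernel

/-- The Coxeter matrix of `Y₂₂₂`. -/
def M7 : CoxeterMatrix (Fin 7) where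
  M := Matrix.of lab7
  isSymm := Matrix.IsSymm.ext fun i j => lab7_symm i j
  diagonal := lab7_diag
  off_diagonal := lab7_off

/-- The Cartan matrix of `Y₂₂₂`. -/
def A7 (i j : Fin 7) : ℤ := if i = j then 2 else if lab7 i j = 3 then -1 else 0

theorem A7_diag : ∀ i : Fin 7, A7 i i = 2 := by decide +kernel

theorem A7_rel : ∀ i j : Fin 7, i ≠ j → (lab7 i j = 2 ∧ A7 i j = 0 ∧ A7 j i = 0) ∨
    (lab7 i j = 3 ∧ A7 i j = -1 ∧ A7 j i = -1) := by decide +kernel

theorem isCartan7 : IsCartan M7 A7 where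
  diag := A7_diag
  rel i j hij := by
    rcases A7_rel i j hij with h | h
    · exact Or.inl h
    · exact Or.inr (Or.inl h)

/-- The kernel check for the equality of two words in the Coxeter group `Y₂₂₂`. -/
def chk7 (w w' : List (Fin 7)) : Bool :=
  (List.range 7).all (fun i => actList (rows A7) (w.map (·.val)) (unit 7 i) ==
      actList (rows A7) (w'.map (·.val)) (unit 7 i))

variable {E : Type*} [Group E]

theorem prod_eq_prod {s : Fin 7 → E} (hs : M7.IsLiftable s) {w w' : List (Fin 7)} (h : chk7 w w' = true) :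
    (w.map s).prod = (w'.map s).prod := by
  have key : ∀ w : List (Fin 7),
      (w.map s).prod = M7.toCoxeterSystem.lift ⟨s, hs⟩ (M7.toCoxeterSystem.wordProd w) := by
    intro w
    rw [CoxeterSystem.wordProd, map_list_prod, List.map_map]
    congr 1
    refine List.map_congr_left fun i _ => ?_
    rw [Function.comp_apply, CoxeterSystem.lift_apply_simple]
  rw [key, key, wordProd_eq_wordProd M7.toCoxeterSystem isCartan7 w w' h]

theorem prod_rep (s : Fin 7 → E) (k : ℕ) (w : List (Fin 7)) :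
    (((List.replicate k w).flatten).map s).prod = (w.map s).prod ^ k := by
  induction k with
  | zero => simp
  | succ k ih => rw [List.replicate_succ, List.flatten_cons, List.map_append, List.prod_append, ih, pow_succ']

theorem chk_hex : chk7 ((List.replicate 10 [2, 1, 0, 2, 3, 4, 2, 5, 6]).flatten ++ [1, 4, 3, 2, 6, 5])
    ([1, 4, 3, 2, 6, 5] ++
      (List.replicate 5 [3, 4, 5, 2, 1, 3, 2, 5, 6, 5, 2, 1, 3, 2, 5, 0, 1, 2]).flatten) = true := by
  decide +kernel

/-- The Coxeter relations of `Y₂₂₂`. -/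
def Cox7 (y : Gen → E) : Prop :=
  ∀ a ∈ [Gen.t3, .t4, .t5, .t6, .t7, .t9, .t10], ∀ b ∈ [Gen.t3, .t4, .t5, .t6, .t7, .t9, .t10],
    (y a * y b) ^ coxLabel edges a b = 1

theorem Cox7.of_all {y : Gen → E} (h : ∀ a b, (y a * y b) ^ coxLabel edges a b = 1) : Cox7 y :=
  fun a _ b _ => h a b

theorem Cox7.lift {y : Gen → E} (h : Cox7 y) : M7.IsLiftable (fun i => y (nd7 i)) := by
  have hm : ∀ i : Fin 7, nd7 i ∈ [Gen.t3, .t4, .t5, .t6, .t7, .t9, .t10] := by decide
  intro i j
  exact h _ (hm i) _ (hm j)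

/-- The sixth node of the hexagon. -/
def r6 (y : Gen → E) : E :=
  (y .t9 * y .t5 * y .t4 * y .t6 * y .t5 * y .t9) * y .t10 * (y .t9 * y .t5 * y .t4 * y .t6 * y .t5 * y .t9)

/-- **The spider relator is a conjugate of the hexagon relator.** -/
theorem spider_conj {y : Gen → E} (h : Cox7 y) :
    (y .t5 * y .t4 * y .t3 * y .t5 * y .t6 * y .t7 * y .t5 * y .t9 * y .t10) ^ 10 =
      (y .t4 * y .t7 * y .t6 * y .t5 * y .t10 * y .t9) *
        (y .t6 * y .t7 * r6 y * y .t3 * y .t4 * y .t5) ^ 5 *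
        (y .t4 * y .t7 * y .t6 * y .t5 * y .t10 * y .t9)⁻¹ := by
  have h1 := prod_eq_prod h.lift chk_hex
  rw [List.map_append, List.prod_append, List.map_append, List.prod_append, prod_rep, prod_rep] at h1
  rw [eq_mul_inv_iff_mul_eq]
  have e1 : (([2, 1, 0, 2, 3, 4, 2, 5, 6] : List (Fin 7)).map fun i => y (nd7 i)).prod =
      y .t5 * y .t4 * y .t3 * y .t5 * y .t6 * y .t7 * y .t5 * y .t9 * y .t10 := by
    simp only [List.map_cons, List.map_nil, List.prod_cons, List.prod_nil, mul_one, mul_assoc]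
    rfl
  have e2 : (([1, 4, 3, 2, 6, 5] : List (Fin 7)).map fun i => y (nd7 i)).prod =
      y .t4 * y .t7 * y .t6 * y .t5 * y .t10 * y .t9 := by
    simp only [List.map_cons, List.map_nil, List.prod_cons, List.prod_nil, mul_one, mul_assoc]
    rfl
  have e3 : (([3, 4, 5, 2, 1, 3, 2, 5, 6, 5, 2, 1, 3, 2, 5, 0, 1, 2] : List (Fin 7)).map fun i => y (nd7 i)).prod =
      y .t6 * y .t7 * r6 y * y .t3 * y .t4 * y .t5 := by
    simp only [List.map_cons, List.map_nil, List.prod_cons, List.prod_nil, mul_one, mul_assoc, r6]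
    rfl
  rw [e1, e2, e3] at h1
  exact h1

/-- **The spider relation from a subgroup containing the hexagon** on which the projection is injective. -/
theorem spider_of_hex {G : Type*} [Group G] (π : E →* G) {y : Gen → E} (h : Cox7 y) (S : Subgroup E)
    (h3 : y .t3 ∈ S) (h4 : y .t4 ∈ S) (h5 : y .t5 ∈ S) (h6 : y .t6 ∈ S) (h7 : y .t7 ∈ S) (hr : r6 y ∈ S)
    (hinj : ∀ x ∈ S, π x = 1 → x = 1)
    (hG : π ((y .t5 * y .t4 * y .t3 * y .t5 * y .t6 * y .t7 * y .t5 * y .t9 * y .t10) ^ 10) = 1) :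
    (y .t5 * y .t4 * y .t3 * y .t5 * y .t6 * y .t7 * y .t5 * y .t9 * y .t10) ^ 10 = 1 := by
  rw [spider_conj h] at hG ⊢
  rw [map_mul, map_mul, map_inv, mul_inv_eq_one, mul_eq_left] at hG
  have hm : (y .t6 * y .t7 * r6 y * y .t3 * y .t4 * y .t5) ^ 5 ∈ S :=
    S.pow_mem (S.mul_mem (S.mul_mem (S.mul_mem (S.mul_mem (S.mul_mem h6 h7) hr) h3) h4) h5) 5
  rw [hinj _ hm hG, mul_one, mul_inv_cancel]

end Cfsg.Agent.B5591.Cover3
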