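import Mathlib
import Cfsg.Agent.B5591.LGSet

/-!
# S5591: the finite configuration of lines (commutations)
-/

set_option autoImplicit false
set_option Elab.async false

namespace Cfsg.Agent.B5591.LGChk

open Cfsg.Agent.BabyM.Conc Cfsg.Agent.BabyM Cfsg.Agent.BabyM.KQ
open Cfsg.Agent.H863.BRep Cfsg.Agent.H863.SMod
open Cfsg.Agent.B5591.Geo Cfsg.Agent.B5591.LGAbs Cfsg.Agent.B5591.LGSet
open Cfsg.Spor.BabyMonster

theorem cq {t : Gen} {v : List Ltr} {c : ℕ} (h1 : v.all isq = true) (h2 : cw v = c)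
    (h : BM.StageW.chk (v ++ BM.StageW.tw t) (BM.StageW.tw t ++ v) = true) : q c * x t = x t * q c := by
  have h3 := comm_chk h
  rwa [gW_R h1, h2] at h3

theorem m5_1 : q 0x6b4 * x .t5 = x .t5 * q 0x6b4 :=
  cq (v := [.Z2, .Z4, .Z5, .Z7, .Z9, .Z10]) (by decide) (by decide +kernel) (by decide +kernel)

theorem m1 : q 0x6b4 * x .t1 = x .t1 * q 0x6b4 :=
  cq (v := [.Z2, .Z4, .Z5, .Z7, .Z9, .Z10]) (by decide) (by decide +kernel) (by decide +kernel)

theorem m5_3 : q 0x2f0 * x .t5 = x .t5 * q 0x2f0 :=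
  cq (v := [.Z4, .Z5, .Z6, .Z7, .Z9]) (by decide) (by decide +kernel) (by decide +kernel)

theorem m3 : q 0x2f0 * x .t3 = x .t3 * q 0x2f0 :=
  cq (v := [.Z4, .Z5, .Z6, .Z7, .Z9]) (by decide) (by decide +kernel) (by decide +kernel)

theorem m5_7 : q 0x208 * x .t5 = x .t5 * q 0x208 :=
  cq (v := [.Z3, .Z9]) (by decide) (by decide +kernel) (by decide +kernel)

theorem m7 : q 0x208 * x .t7 = x .t7 * q 0x208 :=
  cq (v := [.Z3, .Z9]) (by decide) (by decide +kernel) (by decide +kernel)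

theorem m5_10 : q 0x4bc * x .t5 = x .t5 * q 0x4bc :=
  cq (v := [.Z2, .Z3, .Z4, .Z5, .Z7, .Z10]) (by decide) (by decide +kernel) (by decide +kernel)

theorem m10 : q 0x4bc * x .t10 = x .t10 * q 0x4bc :=
  cq (v := [.Z2, .Z3, .Z4, .Z5, .Z7, .Z10]) (by decide) (by decide +kernel) (by decide +kernel)

theorem q5_1_3 : q 0x2a5 * x .t5 = x .t5 * q 0x2a5 :=
  cq (v := [.Z0, .Z2, .Z5, .Z7, .Z9]) (by decide) (by decide +kernel) (by decide +kernel)

theorem q5_1_7 : q 0x9e * x .t5 = x .t5 * q 0x9e :=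
  cq (v := [.Z1, .Z2, .Z3, .Z4, .Z7]) (by decide) (by decide +kernel) (by decide +kernel)

theorem q5_1_10 : q 0x62a * x .t5 = x .t5 * q 0x62a :=
  cq (v := [.Z1, .Z3, .Z5, .Z9, .Z10]) (by decide) (by decide +kernel) (by decide +kernel)

theorem qA1_3 : q 0x2a5 * x .t1 = x .t1 * q 0x2a5 :=
  cq (v := [.Z0, .Z2, .Z5, .Z7, .Z9]) (by decide) (by decide +kernel) (by decide +kernel)

theorem qB1_3 : q 0x2a5 * x .t3 = x .t3 * q 0x2a5 :=
  cq (v := [.Z0, .Z2, .Z5, .Z7, .Z9]) (by decide) (by decide +kernel) (by decide +kernel)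

theorem rA1_3 : q 0x544503 * x .t1 = x .t1 * q 0x544503 :=
  cq (v := [.Z0, .Z1, .Z8, .Z10, .X3, .X7, .X9, .z]) (by decide) (by decide +kernel) (by decide +kernel)

theorem rB1_3 : q 0x544503 * x .t3 = x .t3 * q 0x544503 :=
  cq (v := [.Z0, .Z1, .Z8, .Z10, .X3, .X7, .X9, .z]) (by decide) (by decide +kernel) (by decide +kernel)

theorem qA1_7 : q 0x9e * x .t1 = x .t1 * q 0x9e :=
  cq (v := [.Z1, .Z2, .Z3, .Z4, .Z7]) (by decide) (by decide +kernel) (by decide +kernel)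

theorem qB1_7 : q 0x9e * x .t7 = x .t7 * q 0x9e :=
  cq (v := [.Z1, .Z2, .Z3, .Z4, .Z7]) (by decide) (by decide +kernel) (by decide +kernel)

theorem rA1_7 : q 0x413119 * x .t1 = x .t1 * q 0x413119 :=
  cq (v := [.Z0, .Z3, .Z4, .Z8, .X1, .X2, .X5, .z]) (by decide) (by decide +kernel) (by decide +kernel)

theorem rB1_7 : q 0x413119 * x .t7 = x .t7 * q 0x413119 :=
  cq (v := [.Z0, .Z3, .Z4, .Z8, .X1, .X2, .X5, .z]) (by decide) (by decide +kernel) (by decide +kernel)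

theorem qA1_10 : q 0x62a * x .t1 = x .t1 * q 0x62a :=
  cq (v := [.Z1, .Z3, .Z5, .Z9, .Z10]) (by decide) (by decide +kernel) (by decide +kernel)

theorem qB1_10 : q 0x62a * x .t10 = x .t10 * q 0x62a :=
  cq (v := [.Z1, .Z3, .Z5, .Z9, .Z10]) (by decide) (by decide +kernel) (by decide +kernel)

theorem rA1_10 : q 0x462464 * x .t1 = x .t1 * q 0x462464 :=
  cq (v := [.Z2, .Z5, .Z6, .Z10, .X2, .X6, .X7, .z]) (by decide) (by decide +kernel) (by decide +kernel)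

theorem rB1_10 : q 0x462464 * x .t10 = x .t10 * q 0x462464 :=
  cq (v := [.Z2, .Z5, .Z6, .Z10, .X2, .X6, .X7, .z]) (by decide) (by decide +kernel) (by decide +kernel)

theorem qA3_7 : q 0x4ea * x .t3 = x .t3 * q 0x4ea :=
  cq (v := [.Z1, .Z3, .Z5, .Z6, .Z7, .Z10]) (by decide) (by decide +kernel) (by decide +kernel)

theorem qB3_7 : q 0x4ea * x .t7 = x .t7 * q 0x4ea :=
  cq (v := [.Z1, .Z3, .Z5, .Z6, .Z7, .Z10]) (by decide) (by decide +kernel) (by decide +kernel)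

theorem rA3_7 : q 0x4a9425 * x .t3 = x .t3 * q 0x4a9425 :=
  cq (v := [.Z0, .Z2, .Z5, .Z10, .X1, .X4, .X6, .X8, .z]) (by decide) (by decide +kernel) (by decide +kernel)

theorem rB3_7 : q 0x4a9425 * x .t7 = x .t7 * q 0x4a9425 :=
  cq (v := [.Z0, .Z2, .Z5, .Z10, .X1, .X4, .X6, .X8, .z]) (by decide) (by decide +kernel) (by decide +kernel)

theorem qA3_10 : q 0x64f * x .t3 = x .t3 * q 0x64f :=
  cq (v := [.Z0, .Z1, .Z2, .Z3, .Z6, .Z9, .Z10]) (by decide) (by decide +kernel) (by decide +kernel)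

theorem qB3_10 : q 0x64f * x .t10 = x .t10 * q 0x64f :=
  cq (v := [.Z0, .Z1, .Z2, .Z3, .Z6, .Z9, .Z10]) (by decide) (by decide +kernel) (by decide +kernel)

theorem rA3_10 : q 0x5c3a04 * x .t3 = x .t3 * q 0x5c3a04 :=
  cq (v := [.Z2, .Z9, .X0, .X1, .X2, .X7, .X8, .X9, .z]) (by decide) (by decide +kernel) (by decide +kernel)

theorem rB3_10 : q 0x5c3a04 * x .t10 = x .t10 * q 0x5c3a04 :=
  cq (v := [.Z2, .Z9, .X0, .X1, .X2, .X7, .X8, .X9, .z]) (by decide) (by decide +kernel) (by decide +kernel)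

theorem qA7_10 : q 0x296 * x .t7 = x .t7 * q 0x296 :=
  cq (v := [.Z1, .Z2, .Z4, .Z7, .Z9]) (by decide) (by decide +kernel) (by decide +kernel)

theorem qB7_10 : q 0x296 * x .t10 = x .t10 * q 0x296 :=
  cq (v := [.Z1, .Z2, .Z4, .Z7, .Z9]) (by decide) (by decide +kernel) (by decide +kernel)

theorem rA7_10 : q 0x462464 * x .t7 = x .t7 * q 0x462464 :=
  cq (v := [.Z2, .Z5, .Z6, .Z10, .X2, .X6, .X7, .z]) (by decide) (by decide +kernel) (by decide +kernel)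

theorem rB7_10 : q 0x462464 * x .t10 = x .t10 * q 0x462464 :=
  cq (v := [.Z2, .Z5, .Z6, .Z10, .X2, .X6, .X7, .z]) (by decide) (by decide +kernel) (by decide +kernel)

theorem f3 : q 0x475 * x .t3 = x .t3 * q 0x475 :=
  cq (v := [.Z0, .Z2, .Z4, .Z5, .Z6, .Z10]) (by decide) (by decide +kernel) (by decide +kernel)

theorem f5 : q 0x475 * x .t5 = x .t5 * q 0x475 :=
  cq (v := [.Z0, .Z2, .Z4, .Z5, .Z6, .Z10]) (by decide) (by decide +kernel) (by decide +kernel)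

theorem f7 : q 0x475 * x .t7 = x .t7 * q 0x475 :=
  cq (v := [.Z0, .Z2, .Z4, .Z5, .Z6, .Z10]) (by decide) (by decide +kernel) (by decide +kernel)

theorem f10 : q 0x475 * x .t10 = x .t10 * q 0x475 :=
  cq (v := [.Z0, .Z2, .Z4, .Z5, .Z6, .Z10]) (by decide) (by decide +kernel) (by decide +kernel)

end Cfsg.Agent.B5591.LGChk
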