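import Mathlib
import Cfsg.Agent.B5591.LGSet

/-!
# S5591: the finite configuration of lines (transporters)
-/

set_option autoImplicit false
set_option Elab.async false

namespace Cfsg.Agent.B5591.LGData

open Cfsg.Agent.BabyM.Conc Cfsg.Agent.BabyM Cfsg.Agent.BabyM.KQ
open Cfsg.Agent.H863.BRep Cfsg.Agent.H863.SMod
open Cfsg.Agent.B5591.Geo Cfsg.Agent.B5591.LGAbs Cfsg.Agent.B5591.LGSet
open Cfsg.Spor.BabyMonster

theorem eM1 : Edge zz pp (q 0x4ea) (q 0x400) (q 0x6b4) :=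
  edge_of (w := [.h, .p, .h, .p, .h]) (by decide +kernel)

theorem eP1 : Edge zz pp (q 0x4ea) (q 0x6b4) (q 0x57742f) :=
  edge_of (w := [.h, .p, .p, .p, .p, .h, .p, .p, .p, .p, .y1, .xi, .h, .p, .h, .p, .h]) (by decide +kernel)

theorem eM3 : Edge zz pp (q 0x4ea) (q 0x400) (q 0x2f0) :=
  edge_of (w := [.h, .p, .h, .p, .h, .p, .p, .p, .p, .p, .h, .p, .y5]) (by decide +kernel)

theorem eP3 : Edge zz pp (q 0x4ea) (q 0x2f0) (q 0x5efdf3) :=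
  edge_of (w := [.h, .y2, .xi, .h, .y2, .xi, .y1, .xi, .h]) (by decide +kernel)

theorem eM7 : Edge zz pp (q 0x4ea) (q 0x400) (q 0x208) :=
  edge_of (w := [.h, .p, .h, .p, .h, .p, .h, .y4]) (by decide +kernel)

theorem eP7 : Edge zz pp (q 0x4ea) (q 0x208) (q 0x4fb42c) :=
  edge_of (w := [.h, .xi, .h, .y2, .xi, .y1, .xi, .h, .p]) (by decide +kernel)

theorem eM10 : Edge zz pp (q 0x4ea) (q 0x400) (q 0x4bc) :=
  edge_of (w := [.p, .h, .p, .p, .h, .p, .p, .p, .p, .p]) (by decide +kernel)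

theorem eP10 : Edge zz pp (q 0x4ea) (q 0x4bc) (q 0x1f7a49) :=
  edge_of (w := [.p, .h, .p, .p, .h, .p, .h, .y1, .xi, .p, .xi, .y1, .xi, .h, .p, .p]) (by decide +kernel)

theorem eQ1_3 : Edge zz pp (q 0x4ea) (q 0x400) (q 0x2a5) :=
  edge_of (w := [.h, .p, .p, .p, .p, .p, .p, .p, .p, .p, .y1]) (by decide +kernel)

theorem tM1_3 : Tri zz pp (q 0x4ea) (q 0x9) (q 0x6b4) (q 0x2a5) (q 0x400) :=
  tri_of (w := [.p, .h, .p, .p, .p, .h, .p, .p, .p, .h, .p, .p, .h, .p, .p, .p, .y4, .xi, .h, .p, .h, .p, .h]) (by decide +kernel)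

theorem tP1_3 : Tri zz pp (q 0x4ea) (q 0x9) (q 0x57742f) (q 0x2a5) (q 0x6b4) :=
  tri_of (w := [.h, .p, .p, .p, .p, .p, .h, .p, .h, .p, .p, .h, .p, .p, .p, .p, .p, .p, .p, .p, .xi, .p, .xi, .p, .p, .h, .p]) (by decide +kernel)

theorem tM3_1 : Tri zz pp (q 0x4ea) (q 0x9) (q 0x2f0) (q 0x2a5) (q 0x400) :=
  tri_of (w := [.p, .p, .p, .h, .p, .h, .p, .p, .p, .p, .p, .p, .h, .p, .p, .p, .h, .y4, .xi, .h, .y2, .xi, .y1, .xi, .h]) (by decide +kernel)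

theorem tP3_1 : Tri zz pp (q 0x4ea) (q 0x9) (q 0x5efdf3) (q 0x2a5) (q 0x2f0) :=
  tri_of (w := [.p, .h, .p, .p, .p, .p, .p, .p, .p, .p, .p, .p, .h, .p, .p, .p, .p, .p, .p, .p, .y5, .xi, .h, .xi, .y10]) (by decide +kernel)

theorem oA1_3 : Tri zz pp (q 0x4ea) (q 0x9) (q 0x2a5) (q 0x544503) (q 0x57742f) :=
  tri_of (w := [.p, .p, .p, .p, .p, .h, .p, .h, .p, .h, .p, .p, .p, .p, .h, .p, .p, .p, .p, .xi, .h, .y2, .xi, .y1, .y5, .xi]) (by decide +kernel)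

theorem oB1_3 : Tri zz pp (q 0x4ea) (q 0x9) (q 0x2a5) (q 0x544503) (q 0x5efdf3) :=
  tri_of (w := [.h, .p, .h, .p, .h, .p, .h, .p, .y6, .xi, .h, .y2, .xi, .y1, .y5, .xi]) (by decide +kernel)

theorem eQ1_7 : Edge zz pp (q 0x4ea) (q 0x400) (q 0x9e) :=
  edge_of (w := [.p, .p, .p, .p, .p, .h, .p, .h, .p, .p, .p, .p, .p, .y2]) (by decide +kernel)

theorem tM1_7 : Tri zz pp (q 0x4ea) (q 0x9) (q 0x6b4) (q 0x9e) (q 0x400) :=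
  tri_of (w := [.p, .p, .h, .p, .p, .p, .p, .p, .h, .p, .p, .p, .p, .p, .h, .p, .h, .p, .h, .p, .y6, .xi, .h, .p, .h, .p, .h]) (by decide +kernel)

theorem tP1_7 : Tri zz pp (q 0x4ea) (q 0x9) (q 0x57742f) (q 0x9e) (q 0x6b4) :=
  tri_of (w := [.h, .p, .h, .p, .p, .h, .p, .h, .p, .p, .h, .p, .p, .h, .p, .p, .p, .p, .p, .h, .p, .xi, .p, .xi, .p, .p, .h, .p]) (by decide +kernel)

theorem tM7_1 : Tri zz pp (q 0x4ea) (q 0x9) (q 0x208) (q 0x9e) (q 0x400) :=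
  tri_of (w := [.p, .p, .p, .h, .p, .h, .p, .p, .p, .p, .p, .p, .h, .p, .p, .p, .h, .y2, .xi, .h, .y2, .xi, .y1, .xi, .h, .p]) (by decide +kernel)

theorem tP7_1 : Tri zz pp (q 0x4ea) (q 0x9) (q 0x4fb42c) (q 0x9e) (q 0x208) :=
  tri_of (w := [.p, .p, .p, .p, .p, .h, .p, .h, .p, .p, .p, .p, .xi, .p, .xi]) (by decide +kernel)

theorem oA1_7 : Tri zz pp (q 0x4ea) (q 0x9) (q 0x9e) (q 0x413119) (q 0x57742f) :=
  tri_of (w := [.h, .p, .p, .h, .p, .h, .p, .p, .p, .h, .p, .p, .p, .p, .p, .p, .y3, .xi, .h, .xi, .y5, .xi, .p]) (by decide +kernel)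

theorem oB1_7 : Tri zz pp (q 0x4ea) (q 0x9) (q 0x9e) (q 0x413119) (q 0x4fb42c) :=
  tri_of (w := [.h, .p, .p, .p, .h, .p, .p, .p, .h, .p, .p, .h, .p, .h, .p, .h, .p, .y4, .h, .xi, .h, .xi, .y5, .xi, .p]) (by decide +kernel)

theorem eQ1_10 : Edge zz pp (q 0x4ea) (q 0x400) (q 0x62a) :=
  edge_of (w := [.h, .p, .p, .p, .h, .p, .p, .p, .p, .h]) (by decide +kernel)

theorem tM1_10 : Tri zz pp (q 0x4ea) (q 0x9) (q 0x6b4) (q 0x62a) (q 0x400) :=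
  tri_of (w := [.p, .p, .h, .p, .p, .p, .p, .p, .h, .p, .p, .p, .p, .p, .h, .p, .h, .p, .h, .p, .y2, .xi, .h, .p, .h, .p, .h]) (by decide +kernel)

theorem tP1_10 : Tri zz pp (q 0x4ea) (q 0x9) (q 0x57742f) (q 0x62a) (q 0x6b4) :=
  tri_of (w := [.p, .p, .p, .h, .p, .h, .p, .p, .p, .p, .p, .h, .p, .p, .p, .p, .xi, .p, .xi, .p, .p, .h, .p]) (by decide +kernel)

theorem tM10_1 : Tri zz pp (q 0x4ea) (q 0x9) (q 0x4bc) (q 0x62a) (q 0x400) :=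
  tri_of (w := [.p, .h, .p, .h, .p, .h, .p, .p, .p, .p, .p, .p, .p, .h, .p, .p, .p, .p, .p, .y6, .xi, .p, .xi, .y1, .xi, .h, .p, .p]) (by decide +kernel)

theorem tP10_1 : Tri zz pp (q 0x4ea) (q 0x9) (q 0x1f7a49) (q 0x62a) (q 0x4bc) :=
  tri_of (w := [.p, .p, .p, .p, .p, .h, .p, .h, .p, .p, .p, .p, .p, .xi, .p, .h, .xi, .h, .xi, .y2, .y7, .xi]) (by decide +kernel)

theorem oA1_10 : Tri zz pp (q 0x4ea) (q 0x9) (q 0x62a) (q 0x462464) (q 0x57742f) :=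
  tri_of (w := [.h, .p, .h, .p, .p, .p, .h, .p, .p, .p, .h, .p, .p, .p, .p, .y4, .xi, .h, .p, .xi, .p, .p, .h, .p, .h]) (by decide +kernel)

theorem oB1_10 : Tri zz pp (q 0x4ea) (q 0x9) (q 0x62a) (q 0x462464) (q 0x1f7a49) :=
  tri_of (w := [.h, .p, .p, .h, .p, .h, .p, .h, .p, .p, .h, .p, .p, .h, .p, .h, .p, .p, .h, .y3, .xi, .h, .p, .xi, .p, .p, .h, .p, .h]) (by decide +kernel)

theorem eQ3_7 : Edge zz pp (q 0x4ea) (q 0x400) (q 0x4ea) :=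
  edge_of (w := []) (by decide +kernel)

theorem tM3_7 : Tri zz pp (q 0x4ea) (q 0x9) (q 0x2f0) (q 0x4ea) (q 0x400) :=
  tri_of (w := [.p, .p, .p, .h, .p, .h, .p, .p, .p, .p, .p, .p, .h, .p, .h, .p, .p, .h, .y6, .xi, .h, .y2, .xi, .y1, .xi, .h]) (by decide +kernel)

theorem tP3_7 : Tri zz pp (q 0x4ea) (q 0x9) (q 0x5efdf3) (q 0x4ea) (q 0x2f0) :=
  tri_of (w := [.h, .p, .h, .p, .h, .p, .p, .h, .p, .p, .p, .p, .h, .p, .p, .p, .p, .p, .p, .p, .y5, .xi, .h, .xi, .y10]) (by decide +kernel)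

theorem tM7_3 : Tri zz pp (q 0x4ea) (q 0x9) (q 0x208) (q 0x4ea) (q 0x400) :=
  tri_of (w := [.h, .p, .h, .p, .h, .p, .p, .p, .h, .p, .p, .h, .p, .h, .y4, .xi, .h, .y2, .xi, .y1, .xi, .h, .p]) (by decide +kernel)

theorem tP7_3 : Tri zz pp (q 0x4ea) (q 0x9) (q 0x4fb42c) (q 0x4ea) (q 0x208) :=
  tri_of (w := [.h, .p, .h, .p, .h, .p, .p, .h, .p, .p, .p, .p, .h, .p, .p, .p, .p, .p, .p, .p, .xi, .p, .xi]) (by decide +kernel)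

theorem oA3_7 : Tri zz pp (q 0x4ea) (q 0x9) (q 0x4ea) (q 0x4a9425) (q 0x5efdf3) :=
  tri_of (w := [.p, .p, .p, .p, .h, .p, .h, .p, .h, .p, .p, .p, .p, .h, .p, .xi]) (by decide +kernel)

theorem oB3_7 : Tri zz pp (q 0x4ea) (q 0x9) (q 0x4ea) (q 0x4a9425) (q 0x4fb42c) :=
  tri_of (w := [.h, .p, .p, .h, .p, .p, .h, .p, .p, .p, .p, .p, .p, .h, .p, .p, .p, .h, .y6, .xi]) (by decide +kernel)

theorem eQ3_10 : Edge zz pp (q 0x4ea) (q 0x400) (q 0x64f) :=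
  edge_of (w := [.p, .p, .p, .p, .p, .p, .p, .p, .p, .p]) (by decide +kernel)

theorem tM3_10 : Tri zz pp (q 0x4ea) (q 0x9) (q 0x2f0) (q 0x64f) (q 0x400) :=
  tri_of (w := [.h, .p, .h, .p, .h, .p, .p, .p, .h, .p, .p, .h, .p, .h, .y4, .xi, .h, .y2, .xi, .y1, .xi, .h]) (by decide +kernel)

theorem tP3_10 : Tri zz pp (q 0x4ea) (q 0x9) (q 0x5efdf3) (q 0x64f) (q 0x2f0) :=
  tri_of (w := [.p, .p, .p, .p, .p, .p, .h, .p, .p, .p, .p, .y7, .xi, .h, .xi, .y10]) (by decide +kernel)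

theorem tM10_3 : Tri zz pp (q 0x4ea) (q 0x9) (q 0x4bc) (q 0x64f) (q 0x400) :=
  tri_of (w := [.p, .h, .p, .p, .p, .h, .p, .p, .p, .p, .p, .p, .h, .p, .p, .y4, .xi, .p, .xi, .y1, .xi, .h, .p, .p]) (by decide +kernel)

theorem tP10_3 : Tri zz pp (q 0x4ea) (q 0x9) (q 0x1f7a49) (q 0x64f) (q 0x4bc) :=
  tri_of (w := [.p, .p, .p, .p, .p, .p, .h, .p, .p, .p, .p, .p, .xi, .p, .h, .xi, .h, .xi, .y2, .y7, .xi]) (by decide +kernel)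

theorem oA3_10 : Tri zz pp (q 0x4ea) (q 0x9) (q 0x64f) (q 0x5c3a04) (q 0x5efdf3) :=
  tri_of (w := [.h, .p, .h, .p, .p, .h, .p, .h, .p, .p, .h, .p, .h, .p, .p, .p, .y1, .p, .xi, .h, .xi, .h, .y2, .xi]) (by decide +kernel)

theorem oB3_10 : Tri zz pp (q 0x4ea) (q 0x9) (q 0x64f) (q 0x5c3a04) (q 0x1f7a49) :=
  tri_of (w := [.h, .p, .p, .p, .p, .h, .p, .p, .h, .p, .h, .p, .p, .h, .p, .h, .y1, .p, .xi, .h, .xi, .h, .y2, .xi]) (by decide +kernel)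

theorem eQ7_10 : Edge zz pp (q 0x4ea) (q 0x400) (q 0x296) :=
  edge_of (w := [.h, .p, .p, .p, .p, .p, .p, .p, .p, .p, .p, .y2]) (by decide +kernel)

theorem tM7_10 : Tri zz pp (q 0x4ea) (q 0x9) (q 0x208) (q 0x296) (q 0x400) :=
  tri_of (w := [.p, .p, .p, .h, .p, .h, .p, .p, .p, .p, .p, .p, .h, .p, .p, .p, .h, .y4, .xi, .h, .y2, .xi, .y1, .xi, .h, .p]) (by decide +kernel)

theorem tP7_10 : Tri zz pp (q 0x4ea) (q 0x9) (q 0x4fb42c) (q 0x296) (q 0x208) :=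
  tri_of (w := [.p, .h, .p, .p, .p, .p, .p, .p, .p, .p, .p, .p, .h, .p, .p, .p, .p, .p, .p, .p, .xi, .p, .xi]) (by decide +kernel)

theorem tM10_7 : Tri zz pp (q 0x4ea) (q 0x9) (q 0x4bc) (q 0x296) (q 0x400) :=
  tri_of (w := [.p, .h, .p, .h, .p, .h, .p, .p, .p, .p, .p, .p, .p, .h, .p, .p, .p, .p, .p, .y2, .xi, .p, .xi, .y1, .xi, .h, .p, .p]) (by decide +kernel)

theorem tP10_7 : Tri zz pp (q 0x4ea) (q 0x9) (q 0x1f7a49) (q 0x296) (q 0x4bc) :=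
  tri_of (w := [.p, .h, .p, .p, .h, .p, .p, .h, .p, .p, .p, .h, .p, .p, .p, .p, .p, .h, .xi, .p, .h, .xi, .h, .xi, .y2, .y7, .xi]) (by decide +kernel)

theorem oA7_10 : Tri zz pp (q 0x4ea) (q 0x9) (q 0x296) (q 0x462464) (q 0x4fb42c) :=
  tri_of (w := [.p, .h, .p, .h, .p, .h, .p, .h, .p, .p, .p, .p, .p, .p, .h, .p, .p, .p, .y1, .xi, .p, .y3, .xi, .y3, .xi]) (by decide +kernel)

theorem oB7_10 : Tri zz pp (q 0x4ea) (q 0x9) (q 0x296) (q 0x462464) (q 0x1f7a49) :=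
  tri_of (w := [.p, .h, .p, .h, .p, .p, .p, .p, .h, .p, .h, .p, .p, .h, .p, .p, .p, .h, .y6, .xi, .p, .y3, .xi, .y3, .xi]) (by decide +kernel)

end Cfsg.Agent.B5591.LGData
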