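import Mathlib
import Cfsg.Agent.B5591.LocOrb

/-!
# S5591: the words of the local analysis and their checks
-/

set_option autoImplicit false
set_option Elab.async false

namespace Cfsg.Agent.B5591.LocChk

open Cfsg.Agent.Monster.VecEngine Cfsg.Agent.BabyM.Conc Cfsg.Agent.H863.BVec
open Cfsg.Agent.B5591.LocOrb Cfsg.Agent.BM.StageW Cfsg.Spor.BabyMonster

/-- The word of a product of generators. -/
def wL (l : List Gen) : List Ltr := List.rec (motive := fun _ => List Ltr) [] (fun t _ ih => ih ++ tw t) l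

/-- The first element. -/
def uL : List Gen := [.t3, .t4, .t6, .t7]

/-- The second element. -/
def vL : List Gen :=
  [.t7, .t6, .t5, .t9, .t10, .t6, .t4, .t5, .t9, .t6, .t7, .t4, .t5, .t6, .t3, .t4, .t5, .t9, .t10, .t7, .t6, .t3,
  .t4, .t5, .t9, .t6, .t7, .t4, .t5, .t3]

/-- The first generator of `A`. -/
def x1W : List Ltr :=
  [.h, .p8, .h, .p6, .h, .p4, .h, .p7, .Z2, .Z5]

/-- The second generator of `A`. -/
def x2W : List Ltr :=
  [.p6, .h, .p8, .h, .p8, .Z0, .Z2, .Z6, .Z8]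

/-- The conjugating element. -/
def kW : List Ltr :=
  [.Z0, .Z1, .Z5, .Z6, .Z7, .Z9, .Z10, .p10, .hi, .p9, .xii, .p10, .xii, .z, .X10, .X1, .Z1, .tau, .X10, .Z1, .X1,
  .X10, .z, .xi, .p, .xi, .p2, .h, .p, .xii, .p10, .y9, .xii, .p6, .xii, .X10, .taui, .p10, .xii, .y2, .p6, .xii,
  .p8, .h, .p4, .h, .p7, .h, .y5, .y7, .y8, .Z1, .Z3, .Z5, .Z7, .Z8, .Z9, .Z10, .X0, .X1, .X2, .X3, .X6, .z]

/-- The transporter to the axis `e3`. -/
def eW : List Ltr :=
  [.h, .y2, .y3, .y5, .y6, .y8, .Z0, .Z1, .Z2, .Z5, .Z7, .Z8, .Z10, .X0, .X1, .X3, .X5, .X6, .X7, .z]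

/-- An element inverting `A`. -/
def n0W : List Ltr :=
  [.p, .h, .p6, .h, .p7, .h, .p, .h, .p7, .h, .p, .h, .Z1, .Z3, .Z4, .Z7]

/-- An element of determinant `-1`. -/
def n1W : List Ltr :=
  [.p3, .h, .p8, .Z2, .Z3, .Z4, .Z7, .Z9]

/-- An element centralising `A`. -/
def c0 : List Ltr :=
  [.tau]

/-- An element centralising `A`. -/
def c1 : List Ltr :=
  [.h, .p4, .h, .p10, .h, .p6, .h, .p10, .h, .p5, .h, .y1, .y3, .y4, .Z1, .Z2, .Z4, .Z5, .Z6, .Z10, .X0, .X1, .X3,
  .X6, .X7, .X9, .z, .xi, .h, .p8, .xi, .p3, .y1]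

/-- An element centralising `A`. -/
def c2 : List Ltr :=
  [.p7, .h, .p10, .h, .p4, .h, .p3, .h, .y1, .y2, .y3, .y5, .y6, .y7, .Z1, .Z3, .Z4, .Z5, .Z9, .Z10, .X0, .X3,
  .X5, .X6, .X9, .z, .xi, .p5, .xi, .h, .y8, .xi]

/-- An element centralising `A`. -/
def c6 : List Ltr :=
  [.h, .p2, .h, .p3, .h, .p5, .h, .p, .h, .p3, .h, .p10, .y2, .y3, .y7, .y8, .y9, .Z0, .Z9, .X0, .X1, .X2, .X3,
  .X4, .X5, .X7, .xi, .p2, .xi, .p10, .y4, .xi, .y6]

/-- An element centralising `A`. -/
def c8 : List Ltr :=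
  [.h, .p3, .h, .p2, .h, .p7, .h, .p3, .h, .y4, .y5, .y7, .y9, .y10, .Z0, .Z5, .Z7, .Z10, .X2, .X3, .X7, .X8, .z,
  .xi, .p3, .xi, .y5, .p9, .xi, .p3]

/-- An element centralising `A`. -/
def c10 : List Ltr :=
  [.y2, .y3, .y4, .y5, .y8, .Z1, .Z3, .Z4, .Z7, .X10]

/-- An element centralising `A`. -/
def s0 : List Ltr := c1 ++ c1 ++ c0 ++ c6 ++ c0 ++ c2

/-- A transporter. -/
def m0 : List Ltr :=
  [.p6]

/-- An element centralising `A`. -/
def s3 : List Ltr := c2 ++ c10 ++ c0 ++ c2 ++ c0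

/-- A transporter. -/
def m3 : List Ltr :=
  [.h, .y3, .y4, .y5, .y8, .Z0]

/-- An element centralising `A`. -/
def s6 : List Ltr := c2 ++ c0 ++ c0 ++ c2

/-- A transporter. -/
def m6 : List Ltr :=
  [.h, .X0, .X3, .X5, .X6, .X8, .X9, .z]

/-- An element centralising `A`. -/
def s9 : List Ltr := c2 ++ c0 ++ c0 ++ c8

/-- A transporter. -/
def m9 : List Ltr :=
  [.p9, .h, .p2, .h, .y1, .y4, .y5, .Z0, .X0, .X1, .X2, .X4]

/-- An element centralising `A`. -/
def s12 : List Ltr := c0 ++ c0 ++ c8 ++ c0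

/-- A transporter. -/
def m12 : List Ltr :=
  [.p6, .y3, .y4, .y5, .y6, .y7, .y8, .y9, .y10, .Z4, .Z6, .Z9, .X5, .z]

/-- An element centralising `A`. -/
def s15 : List Ltr := c2

/-- A transporter. -/
def m15 : List Ltr :=
  [.p6, .y6, .Z1, .Z4, .Z9, .Z10, .X1, .X5, .X6, .X8, .X9, .z]

/-- The correction for `p`. -/
def rp : List Ltr :=
  [.y1, .y2, .y3, .y4, .y5, .y6, .y10, .Z1, .Z3, .Z4, .Z5, .Z6, .Z9, .X1, .X2, .X3, .X4, .X6, .X7]

/-- The correction for `h`. -/
def rh : List Ltr :=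
  [.y2, .y3, .y4, .y8, .Z9, .Z10, .X1, .X3, .X4, .X6, .X7, .X8, .X9]

/-- A negating element. -/
def z1 : List Ltr :=
  [.y6, .y8, .y9]

/-- A negating element. -/
def z2 : List Ltr :=
  [.Z0, .X0, .X3, .X4, .X5]

/-- A negating element. -/
def z4 : List Ltr :=
  [.Z1, .Z5, .X0]

/-- A negating element. -/
def z5 : List Ltr :=
  [.Z1]

/-- A negating element. -/
def z7 : List Ltr :=
  [.y5, .z]

/-- A negating element. -/
def z8 : List Ltr :=
  [.Z1]

/-- A negating element. -/
def z10 : List Ltr :=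
  [.y1, .y4, .y6, .y10, .Z1, .Z3, .Z4, .Z5, .z]

/-- A negating element. -/
def z11 : List Ltr :=
  [.Z1]

/-- A negating element. -/
def z13 : List Ltr :=
  [.Z2, .Z6, .Z7, .Z8, .X0, .X3, .X5, .X9]

/-- A negating element. -/
def z14 : List Ltr :=
  [.Z0, .Z1, .Z2, .Z3, .Z4, .Z7, .z]

/-- A negating element. -/
def z16 : List Ltr :=
  [.Z0, .Z1, .Z4, .Z7, .Z10, .X0, .X1, .X3, .X9]

/-- A negating element. -/
def z17 : List Ltr :=
  [.y3, .y4, .y5, .y6, .Z4, .Z5, .X2, .X3, .X4, .X5]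

theorem x1_3 : chk (x1W ++ x1W ++ x1W) [] = true := by decide +kernel

theorem x2_3 : chk (x2W ++ x2W ++ x2W) [] = true := by decide +kernel

theorem x12 : chk (x2W ++ x1W) (x1W ++ x2W) = true := by decide +kernel

theorem fix1 : axC (eW ++ x1W) (18 : Fin 19) eW (18 : Fin 19) = true := by decide +kernel

theorem fix2 : axC (eW ++ x2W) (18 : Fin 19) eW (18 : Fin 19) = true := by decide +kernel

theorem n0_1 : chk (x1W ++ n0W ++ x1W) n0W = true := by decide +kernel

theorem n0_2 : chk (x2W ++ n0W ++ x2W) n0W = true := by decide +kernel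

theorem n1_1 : chk (x1W ++ n1W) (n1W ++ x2W ++ x1W) = true := by decide +kernel

theorem n1_2 : chk (x2W ++ n1W) (n1W ++ x2W ++ x2W) = true := by decide +kernel

theorem n0_I : check (n0W.map Ltr.prog) (p1 1344) [] (p1 1344) = true := by decide +kernel

theorem n1_I : check (n1W.map Ltr.prog) (p1 1344) [] (m1 1344) = true := by decide +kernel

theorem e_I : check (eW.map Ltr.prog) (p1 1344) [] (m1 1344) = true := by decide +kernel

theorem k_u : chk (wL uL ++ kW) (kW ++ x1W) = true := by decide +kernel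

theorem k_v : chk (wL vL ++ kW) (kW ++ x2W) = true := by decide +kernel

theorem k_e : axC (.y1 :: kW) (0 : Fin 19) eW (18 : Fin 19) = true := by decide +kernel

theorem c0_1 : chk (x1W ++ c0) (c0 ++ x1W) = true := by decide +kernel

theorem c0_2 : chk (x2W ++ c0) (c0 ++ x2W) = true := by decide +kernel

theorem c1_1 : chk (x1W ++ c1) (c1 ++ x1W) = true := by decide +kernel

theorem c1_2 : chk (x2W ++ c1) (c1 ++ x2W) = true := by decide +kernel

theorem c2_1 : chk (x1W ++ c2) (c2 ++ x1W) = true := by decide +kernel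

theorem c2_2 : chk (x2W ++ c2) (c2 ++ x2W) = true := by decide +kernel

theorem c6_1 : chk (x1W ++ c6) (c6 ++ x1W) = true := by decide +kernel

theorem c6_2 : chk (x2W ++ c6) (c6 ++ x2W) = true := by decide +kernel

theorem c8_1 : chk (x1W ++ c8) (c8 ++ x1W) = true := by decide +kernel

theorem c8_2 : chk (x2W ++ c8) (c8 ++ x2W) = true := by decide +kernel

theorem c10_1 : chk (x1W ++ c10) (c10 ++ x1W) = true := by decide +kernel

theorem c10_2 : chk (x2W ++ c10) (c10 ++ x2W) = true := by decide +kernel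

theorem s0_e : axC (eW ++ s0) (18 : Fin 19) m0 (0 : Fin 19) = true := by decide +kernel

theorem m0_I : check (m0.map Ltr.prog) (p1 1344) [] (p1 1344) = true := by decide +kernel

theorem s3_e : axC (eW ++ s3) (18 : Fin 19) m3 (3 : Fin 19) = true := by decide +kernel

theorem m3_I : check (m3.map Ltr.prog) (p1 1344) [] (m1 1344) = true := by decide +kernel

theorem s6_e : axC (eW ++ s6) (18 : Fin 19) m6 (6 : Fin 19) = true := by decide +kernel

theorem m6_I : check (m6.map Ltr.prog) (p1 1344) [] (m1 1344) = true := by decide +kernel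

theorem s9_e : axC (eW ++ s9) (18 : Fin 19) m9 (9 : Fin 19) = true := by decide +kernel

theorem m9_I : check (m9.map Ltr.prog) (p1 1344) [] (p1 1344) = true := by decide +kernel

theorem s12_e : axC (eW ++ s12) (18 : Fin 19) m12 (12 : Fin 19) = true := by decide +kernel

theorem m12_I : check (m12.map Ltr.prog) (p1 1344) [] (p1 1344) = true := by decide +kernel

theorem s15_e : axC (eW ++ s15) (18 : Fin 19) m15 (15 : Fin 19) = true := by decide +kernel

theorem m15_I : check (m15.map Ltr.prog) (p1 1344) [] (p1 1344) = true := by decide +kernel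

theorem rp_e : axC [.p] (18 : Fin 19) rp (18 : Fin 19) = true := by decide +kernel

theorem rh_e : axN [.h] (18 : Fin 19) rh (18 : Fin 19) = true := by decide +kernel

theorem z1_e : axN z1 (1 : Fin 19) [] (1 : Fin 19) = true := by decide +kernel

theorem z2_e : axN z2 (2 : Fin 19) [] (2 : Fin 19) = true := by decide +kernel

theorem z4_e : axN z4 (4 : Fin 19) [] (4 : Fin 19) = true := by decide +kernel

theorem z5_e : axN z5 (5 : Fin 19) [] (5 : Fin 19) = true := by decide +kernel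

theorem z7_e : axN z7 (7 : Fin 19) [] (7 : Fin 19) = true := by decide +kernel

theorem z8_e : axN z8 (8 : Fin 19) [] (8 : Fin 19) = true := by decide +kernel

theorem z10_e : axN z10 (10 : Fin 19) [] (10 : Fin 19) = true := by decide +kernel

theorem z11_e : axN z11 (11 : Fin 19) [] (11 : Fin 19) = true := by decide +kernel

theorem z13_e : axN z13 (13 : Fin 19) [] (13 : Fin 19) = true := by decide +kernel

theorem z14_e : axN z14 (14 : Fin 19) [] (14 : Fin 19) = true := by decide +kernel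

theorem z16_e : axN z16 (16 : Fin 19) [] (16 : Fin 19) = true := by decide +kernel

theorem z17_e : axN z17 (17 : Fin 19) [] (17 : Fin 19) = true := by decide +kernel

end Cfsg.Agent.B5591.LocChk
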